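import Groth.Agent.WLocalLib.WContr
import Groth.Agent.WLocalLib.Cover
import Groth.Agent.WEtFieldLib.Basic
import Groth.Agent.S0700
import Groth.Agent.S0734
import Groth.Agent.S0736
import Groth.Agent.S7127

/-! Weakly étale algebras become ind-étale after a faithfully flat ind-étale extension. -/

set_option autoImplicit false
set_option linter.style.haveILetI false
set_option backward.isDefEq.respectTransparency false
universe u

open Topology PrimeSpectrum TensorProduct

namespace Groth.Agent.WEtIndEtLib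

theorem algebraicResidueExtensions_of_weaklyEtale (A B : Type u) [CommRing A] [CommRing B] [Algebra A B]
    [Algebra.WeaklyEtale A B] : ProEtW.AlgebraicResidueExtensions A B := by
  intro q _
  let p := q.comap (algebraMap A B)
  haveI : p.IsPrime := Ideal.IsPrime.comap _
  let K := p.ResidueField
  let L := q.ResidueField
  letI : Algebra K L := (Ideal.ResidueField.map p q (algebraMap A B) rfl).toAlgebra
  haveI : IsScalarTower A K L := IsScalarTower.of_algebraMap_eq fun a => by
    rw [RingHom.algebraMap_toAlgebra, Ideal.ResidueField.map_algebraMap]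
    exact IsScalarTower.algebraMap_apply A B L a
  let φ : K ⊗[A] B →ₐ[K] L :=
    Algebra.TensorProduct.lift (Algebra.ofId _ _) (IsScalarTower.toAlgHom A B L) (fun _ _ => Commute.all _ _)
  letI : Algebra (K ⊗[A] B) L := φ.toRingHom.toAlgebra
  haveI : IsScalarTower K (K ⊗[A] B) L := IsScalarTower.of_algebraMap_eq' φ.comp_algebraMap.symm
  haveI : Algebra.IsEpi (K ⊗[A] B) L := WEtFieldLib.isEpi_of_forall_fraction fun x => by
    obtain ⟨y, s, hs, rfl⟩ := IsFractionRing.div_surjective (A := B ⧸ q) x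
    obtain ⟨y, rfl⟩ := Ideal.Quotient.mk_surjective y
    obtain ⟨s, rfl⟩ := Ideal.Quotient.mk_surjective s
    have e : ∀ b : B, algebraMap (K ⊗[A] B) L (1 ⊗ₜ b) = algebraMap (B ⧸ q) L (Ideal.Quotient.mk q b) := fun b => by
      show φ (1 ⊗ₜ b) = _
      rw [Algebra.TensorProduct.lift_tmul, map_one, one_mul]
      exact IsScalarTower.algebraMap_apply B (B ⧸ q) L b
    have hs' : algebraMap (B ⧸ q) L (Ideal.Quotient.mk q s) ≠ 0 :=
      IsFractionRing.to_map_ne_zero_of_mem_nonZeroDivisors hs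
    refine ⟨1 ⊗ₜ y, 1 ⊗ₜ s, by rw [e]; exact hs', ?_⟩
    rw [e, e, div_mul_cancel₀ _ hs']
  haveI : Algebra.WeaklyEtale K L := WEtFieldLib.weaklyEtale_of_epi (B := K ⊗[A] B) _
  haveI : Algebra.IsIntegral K L := WEtFieldLib.isIntegral
  refine ⟨fun x => ?_⟩
  letI : Algebra (A ⧸ p) L := ((algebraMap K L).comp (algebraMap (A ⧸ p) K)).toAlgebra
  haveI : IsScalarTower (A ⧸ p) K L := IsScalarTower.of_algebraMap_eq fun _ => rfl
  haveI : IsScalarTower (A ⧸ p) (B ⧸ q) L := IsScalarTower.of_algebraMap_eq fun a => by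
    induction a using Quotient.inductionOn' with
    | _ a =>
      show algebraMap K L (algebraMap (A ⧸ p) K (Ideal.Quotient.mk p a)) =
        algebraMap (B ⧸ q) L (Ideal.Quotient.mk q (algebraMap A B a))
      rw [show algebraMap (A ⧸ p) K (Ideal.Quotient.mk p a) = algebraMap A K a from
          (IsScalarTower.algebraMap_apply A (A ⧸ p) K a).symm,
        ← IsScalarTower.algebraMap_apply A K L a]
      exact (IsScalarTower.algebraMap_apply A B L a).trans (IsScalarTower.algebraMap_apply B (B ⧸ q) L _)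
  have hx : IsAlgebraic (A ⧸ p) (algebraMap (B ⧸ q) L x) :=
    (IsFractionRing.isAlgebraic_iff (A ⧸ p) K L).2 (Algebra.IsIntegral.isIntegral _).isAlgebraic
  exact (isAlgebraic_algebraMap_iff (IsFractionRing.injective (B ⧸ q) L)).1 hx

theorem identifies_of_le {C D : Type u} [CommRing C] [CommRing D] [Algebra C D] (M : PrimeSpectrum D)
    (h : Function.Bijective (Localization.localRingHom (M.asIdeal.comap (algebraMap C D)) M.asIdeal (algebraMap C D) rfl))
    (Q : PrimeSpectrum D) (hle : Q.asIdeal ≤ M.asIdeal) :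
    Function.Bijective (Localization.localRingHom (Q.asIdeal.comap (algebraMap C D)) Q.asIdeal (algebraMap C D) rfl) := by
  let q := Q.asIdeal.comap (algebraMap C D)
  let m := M.asIdeal.comap (algebraMap C D)
  let DM := Localization.AtPrime M.asIdeal
  let Cm := Localization.AtPrime m
  have key : ∀ d : D, ∃ c f : C, f ∉ m ∧ algebraMap D DM (d * algebraMap C D f) = algebraMap D DM (algebraMap C D c) := fun d => by
    obtain ⟨x, hx⟩ := h.2 (algebraMap D DM d)
    obtain ⟨c, ⟨f, hf⟩, rfl⟩ := IsLocalization.exists_mk'_eq m.primeCompl x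
    rw [Localization.localRingHom_mk', IsLocalization.mk'_eq_iff_eq_mul, ← map_mul] at hx
    exact ⟨c, f, hf, hx.symm⟩
  refine ⟨(injective_iff_map_eq_zero _).2 fun x hx => ?_, fun y => ?_⟩
  · obtain ⟨c, ⟨s, hs⟩, rfl⟩ := IsLocalization.exists_mk'_eq q.primeCompl x
    rw [Localization.localRingHom_mk', IsLocalization.mk'_eq_zero_iff] at hx
    obtain ⟨⟨t, ht⟩, htc⟩ := hx
    obtain ⟨a, f, hf, ha⟩ := key t
    have ha' : a ∉ q := fun haq => by
      obtain ⟨⟨e, he⟩, hee⟩ := (IsLocalization.eq_iff_exists M.asIdeal.primeCompl DM).1 ha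
      have : e * (t * algebraMap C D f) ∈ Q.asIdeal := by
        rw [hee]; exact Q.asIdeal.mul_mem_left _ haq
      rcases Q.2.mem_or_mem this with h1 | h1
      · exact he (hle h1)
      · rcases Q.2.mem_or_mem h1 with h2 | h2
        · exact ht h2
        · exact hf (hle h2)
    have h0 : algebraMap C Cm (a * c) = 0 := h.1 (by
      rw [map_zero, Localization.localRingHom_to_map, map_mul, map_mul, ← ha, map_mul,
        mul_right_comm, ← map_mul, htc, map_zero, zero_mul])
    obtain ⟨⟨g, hg⟩, hgc⟩ := (IsLocalization.map_eq_zero_iff m.primeCompl Cm _).1 h0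
    rw [IsLocalization.mk'_eq_zero_iff]
    exact ⟨⟨g * a, Ideal.IsPrime.mul_notMem (I := q) inferInstance (fun hgq => hg (hle hgq)) ha'⟩, by rw [mul_assoc]; exact hgc⟩
  · obtain ⟨b, ⟨s, hs⟩, rfl⟩ := IsLocalization.exists_mk'_eq Q.asIdeal.primeCompl y
    obtain ⟨c₁, f₁, hf₁, h₁⟩ := key b
    obtain ⟨c₂, f₂, hf₂, h₂⟩ := key s
    obtain ⟨⟨e₁, he₁⟩, hee₁⟩ := (IsLocalization.eq_iff_exists M.asIdeal.primeCompl DM).1 h₁
    obtain ⟨⟨e₂, he₂⟩, hee₂⟩ := (IsLocalization.eq_iff_exists M.asIdeal.primeCompl DM).1 h₂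
    have hc₂ : c₂ ∉ q := fun hc => by
      have : e₂ * (s * algebraMap C D f₂) ∈ Q.asIdeal := by
        rw [hee₂]; exact Q.asIdeal.mul_mem_left _ hc
      rcases Q.2.mem_or_mem this with h1 | h1
      · exact he₂ (hle h1)
      · rcases Q.2.mem_or_mem h1 with h2 | h2
        · exact hs h2
        · exact hf₂ (hle h2)
    have hf₁' : f₁ ∉ q := fun hh => hf₁ (hle hh)
    refine ⟨IsLocalization.mk' _ (c₁ * f₂) (⟨f₁ * c₂, Ideal.IsPrime.mul_notMem (I := q) inferInstance hf₁' hc₂⟩ : q.primeCompl), ?_⟩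
    rw [Localization.localRingHom_mk', IsLocalization.mk'_eq_iff_eq, IsLocalization.eq_iff_exists Q.asIdeal.primeCompl]
    refine ⟨⟨e₁ * e₂, Ideal.IsPrime.mul_notMem inferInstance (fun h => he₁ (hle h)) (fun h => he₂ (hle h))⟩, ?_⟩
    simp only [map_mul]
    linear_combination (e₁ * b * algebraMap C D f₁) * hee₂ - (e₂ * s * algebraMap C D f₂) * hee₁

/-- A weakly étale algebra has a faithfully flat ind-étale extension which is ind-étale over the base. -/
theorem exists_indEtale_refine (A B : Type u) [CommRing A] [CommRing B] [Algebra A B]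
    [Algebra.WeaklyEtale A B] :
    ∃ (D : Type u) (_ : CommRing D) (_ : Algebra B D) (_ : Algebra A D) (_ : IsScalarTower A B D),
      Module.FaithfullyFlat B D ∧ EtPBC.IsIndEtale B D ∧ EtPBC.IsIndEtale A D := by
  obtain ⟨C, D, _, _, _, _, _, _, hACD, hABD, -, hAC, hffD, hBD, hwC, hwD, hmap, -, -, -, hsh⟩ :=
    WLocalLib.exists_cover A B (algebraicResidueExtensions_of_weaklyEtale A B)
  haveI := Groth.Agent.S0736.result B D hBD
  haveI := Groth.Agent.S0736.result A C hAC
  haveI : Algebra.WeaklyEtale A D := Algebra.WeaklyEtale.trans A B D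
  haveI : Algebra.WeaklyEtale C D := Groth.Agent.S7127.result A C D
  have hid : EtPBC.IdentifiesLocalRings C D := fun Q => by
    obtain ⟨M, hM, hle⟩ := Ideal.exists_le_maximal Q.asIdeal Q.2.ne_top
    have hm : (M.comap (algebraMap C D)).IsMaximal :=
      (WLocalLib.isMaximal_iff_closed _).1 (hmap.2 ⟨M, hM.isPrime⟩ ((WLocalLib.isMaximal_iff_closed _).2 hM))
    haveI := hm
    exact identifies_of_le ⟨M, hM.isPrime⟩ (WLocalLib.bijective_localRingHom_of_weaklyEtale ⟨M, hM.isPrime⟩ (hsh _)) Q hle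
  exact ⟨D, inferInstance, inferInstance, inferInstance, hABD, hffD, hBD,
    Groth.Agent.S0734.result A C D hAC
      (WLocalLib.isIndEtale_of_isIndZariski (Groth.Agent.S0700.result C D hid hwC hwD hmap))⟩

end Groth.Agent.WEtIndEtLib
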